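import Mathlib
import Cfsg.Agent.Lib.WAb.Idx
import Cfsg.Agent.Lib.Coprime.Action

/-! Abelian Sylow 2-subgroups and solvable involution centralizers. -/

set_option autoImplicit false

namespace CfsgLib.Abel2

open Subgroup Cfsg CfsgLib.Comp Matrix MatrixGroups

universe u

variable {G : Type u} [Group G] [Finite G]

/-- all involution centralizers are solvable -/
def SolvC (X : Type*) [Group X] : Prop :=
  ∀ t : X, orderOf t = 2 → Group.IsSolvable (centralizer ({t} : Set X))

omit [Finite G] in
theorem SolvC.subgroup (h : SolvC G) (K : Subgroup G) : SolvC K := by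
  intro t ht
  have h1 : orderOf (t : G) = 2 := by rw [Subgroup.orderOf_coe, ht]
  have := h _ h1
  let f : centralizer ({t} : Set K) →* centralizer ({(t : G)} : Set G) :=
    (K.subtype.comp (centralizer ({t} : Set K)).subtype).codRestrict _ (fun x => by
      have := x.2
      rw [mem_centralizer_singleton_iff] at this ⊢
      exact congrArg Subtype.val this)
  refine Group.isSolvable_of_isSolvable_injective (f := f) ?_
  intro a b hab
  have : ((f a : G)) = f b := congrArg Subtype.val hab
  exact Subtype.ext (Subtype.ext this)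

theorem SolvC.quot (h : SolvC G) : SolvC (G ⧸ pPrimeCore 2 G) := by
  intro t ht
  have ho := CfsgLib.Core.odd_card_oddCore G
  obtain ⟨x, hx⟩ := QuotientGroup.mk'_surjective (pPrimeCore 2 G) t
  have ht2 : t ^ 2 = 1 := by have := pow_orderOf_eq_one t; rwa [ht] at this
  have hx2 : x ^ 2 ∈ pPrimeCore 2 G := by
    rw [← QuotientGroup.eq_one_iff, QuotientGroup.mk_pow]
    change (QuotientGroup.mk' (pPrimeCore 2 G) x) ^ 2 = 1
    rw [hx, ht2]
  set n := Nat.card (pPrimeCore 2 G) with hn
  have h1 : (x ^ 2) ^ n = 1 := by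
    have := pow_card_eq_one' (G := pPrimeCore 2 G) (x := ⟨_, hx2⟩)
    exact congrArg Subtype.val this
  have h2 : QuotientGroup.mk' (pPrimeCore 2 G) (x ^ n) = t := by
    rw [map_pow, hx]
    obtain ⟨k, hk⟩ := ho
    rw [hk, pow_succ, pow_mul, ht2, one_pow, one_mul]
  have h3 : orderOf (x ^ n) = 2 := by
    apply orderOf_eq_prime
    · rw [← pow_mul, mul_comm, pow_mul, h1]
    · intro h0
      rw [h0, map_one] at h2
      rw [← h2, orderOf_one] at ht
      omega
  have := h _ h3
  have e := CfsgLib.Coprime.map_centralizer_quotient (pPrimeCore 2 G) (A := zpowers (x ^ n))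
    (by rw [Nat.card_zpowers, h3]; exact (Nat.coprime_two_left).2 ho)
    (Or.inl inferInstance)
  rw [MonoidHom.map_zpowers, h2, zpowers_eq_closure, zpowers_eq_closure, centralizer_closure,
    centralizer_closure] at e
  rw [← e]
  exact Group.isSolvable_of_surjective (MonoidHom.subgroupMap_surjective _ _)

omit [Finite G] in
theorem SolvC.not_isJR (h : SolvC G) : ¬ IsJR G := by
  rintro ⟨-, -, -, t, ht, -, E, hE, F, _, _, ho, h3, N, -, ⟨e⟩, -⟩
  have := h t ht
  have hle : E ≤ centralizer ({t} : Set G) := hE.2.1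
  have : Group.IsSolvable E :=
    Group.isSolvable_of_isSolvable_injective (inclusion_injective hle)
  have : Group.IsSolvable PSL(2, F) :=
    Group.isSolvable_of_surjective (f := e.toMonoidHom) e.surjective
  have hs : IsSimpleGroup PSL(2, F) :=
    CfsgLib.Classical.psl_fin_isSimpleGroup 2 le_rfl (fun _ => h3)
  exact qs_not_isSolvable (qs_of_isSimpleGroup (psl_not_comm h3)) this

/-- a nonsolvable group with `O(X) = 1` has a simple normal subgroup with trivial centralizer -/
theorem SolvC.exists_simple (h : SolvC G) (hab : Ab2 G) (hO : pPrimeCore 2 G = ⊥)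
    (hn : ¬ Group.IsSolvable G) : ∃ K : Subgroup G, K.Normal ∧ IsSimpleGroup K ∧
      ¬ IsMulCommutative K ∧ centralizer (K : Set G) = ⊥ := by
  have hE : layer G ≠ ⊥ := fun h0 => hn (CfsgLib.WAb.solvable_of_layer_eq_bot hab hO h0)
  obtain ⟨K, hK⟩ : ∃ K : Subgroup G, IsComponent K := by
    by_contra h0
    exact hE (layer_eq_bot_iff.2 (fun L hL => h0 ⟨L, hL⟩))
  have hodd : Odd (Nat.card (centralizer (K : Set G))) := by
    rw [← Nat.not_even_iff_odd]
    intro he
    obtain ⟨z, hz⟩ := exists_prime_orderOf_dvd_card' (G := centralizer (K : Set G)) 2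
      (even_iff_two_dvd.1 he)
    have hz' : orderOf (z : G) = 2 := by rw [Subgroup.orderOf_coe, hz]
    refine comp_not_le_solvable hK (h _ hz') (fun k hk => ?_)
    rw [mem_centralizer_singleton_iff]
    exact z.2 k hk
  have hN : K.Normal := by
    refine ⟨fun k hk g => ?_⟩
    by_cases he : K.map (MulAut.conj g).toMonoidHom = K
    · rw [← he]
      exact ⟨k, hk, rfl⟩
    · exact absurd (comp_le_centralizer_of_ne (comp_map_conj hK g) hK he)
        (comp_not_le_solvable (comp_map_conj hK g) (CfsgLib.FT.odd_order_solvable hodd))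
  have hC : centralizer (K : Set G) = ⊥ :=
    CfsgLib.ZStar.oddCore_eq_bot_iff.1 hO _ inferInstance hodd
  refine ⟨K, hN, isSimpleGroup_of_qs_of_center_eq_bot (comp_qs hK) ?_,
    qs_not_isMulCommutative (comp_qs hK), hC⟩
  rw [center_eq_subgroupOf_centralizer, hC, bot_subgroupOf]

theorem SolvC.psl (h : SolvC G) (hs : IsSimpleGroup G) (hn : ¬ IsMulCommutative G)
    (hab : Ab2 G) : IsPSLEven G ∨ IsPSLOdd G := by
  rcases classify CfsgLib.WCor.inputs hs hn hab with h1 | h1 | h1
  · exact Or.inl h1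
  · exact Or.inr h1
  · exact absurd h1 h.not_isJR

theorem s3188 (S : Sylow 2 G) (hS : IsMulCommutative (S : Subgroup G)) (hC : SolvC G) :
    Group.IsSolvable G ∨
      ∃ (F : Type) (_ : Field F) (_ : Fintype F),
        (((Fintype.card F % 8 = 3 ∨ Fintype.card F % 8 = 5) ∧ 5 ≤ Fintype.card F) ∨
          (∃ n : ℕ, 2 ≤ n ∧ Fintype.card F = 2 ^ n)) ∧
        ∃ N : Subgroup (G ⧸ oddCore G), N.Normal ∧ Nonempty (N ≃* PSL(2, F)) ∧
          centralizer (N : Set (G ⧸ oddCore G)) = ⊥ := by
  by_cases hs : Group.IsSolvable G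
  · exact Or.inl hs
  right
  have hab : Ab2 G := abelian_sylow_of_one S hS
  have hq : Ab2 (G ⧸ pPrimeCore 2 G) := hab.of_surjective _ (QuotientGroup.mk'_surjective _)
  have hn : ¬ Group.IsSolvable (G ⧸ pPrimeCore 2 G) := by
    intro h0
    have := CfsgLib.FT.odd_order_solvable (CfsgLib.Core.odd_card_oddCore G)
    exact hs (Group.isSolvable_of_ker_le_range (pPrimeCore 2 G).subtype
      (QuotientGroup.mk' (pPrimeCore 2 G)) (by simp))
  obtain ⟨K, hK, hKs, hKn, hKc⟩ := hC.quot.exists_simple hq
    (CfsgLib.Core.pPrimeCore_quotient_pPrimeCore 2 G) hn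
  have hKab : Ab2 K := hq.of_injective K.subtype K.subtype_injective
  rcases (hC.quot.subgroup K).psl hKs hKn hKab with h1 | h1
  · obtain ⟨a, ha, F, _, _, hF, e⟩ := CfsgLib.WCor.pslEven_pow h1
    exact ⟨F, _, _, Or.inr ⟨a, ha, hF⟩, K, hK, e, hKc⟩
  · obtain ⟨F, _, _, h5, h8, e⟩ := CfsgLib.Gold.Cor.pslOdd_mod hKab h1
    exact ⟨F, _, _, Or.inl ⟨h8, h5⟩, K, hK, e, hKc⟩

theorem s3189 [hs : IsSimpleGroup G] (hG : ¬ IsMulCommutative G) (S : Sylow 2 G)
    (hS : IsMulCommutative (S : Subgroup G)) (h8 : Nat.card (S : Subgroup G) = 8) (hC : SolvC G) :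
    (centralizer ((S : Subgroup G) : Set G)).relIndex (normalizer ((S : Subgroup G) : Set G)) =
      7 := by
  have hab : Ab2 G := abelian_sylow_of_one S hS
  have hT : NTrans (S : Subgroup G) := fun a ha ha1 b hb hb1 =>
    transitive_of_card_eight S hS (pResidual_eq_top_of_simple hG 2) h8 ha ha1 hb hb1
  obtain ⟨v, hv, hv1⟩ : ∃ v ∈ (S : Subgroup G), v ≠ 1 := by
    by_contra h0
    push Not at h0
    have : (S : Subgroup G) = ⊥ := (eq_bot_iff_forall _).2 h0
    rw [this, card_bot] at h8
    omega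
  have h7 := hT.relIndex hv hv1
  rcases hC.psl hs hG hab with ⟨F, _, _, _, -, ⟨e⟩⟩ | ⟨F, _, _, ho, h3, ⟨e⟩⟩
  · have h1 : centralizer ({v} : Set G) ≤ centralizer ((S : Subgroup G) : Set G) := by
      intro a ha
      rw [mem_centralizer_iff]
      intro s hs'
      obtain ⟨n, hn⟩ := S.isPGroup' ⟨v, hv⟩
      have hn' : e v ^ 2 ^ n = 1 := by
        rw [← map_pow]
        have : v ^ 2 ^ n = 1 := congrArg Subtype.val hn
        rw [this, map_one]
      have hev : e v ≠ 1 := fun h0 => hv1 (e.injective (h0.trans (map_one e).symm))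
      have hm : ∀ b ∈ centralizer ({v} : Set G), e b ∈ centralizer ({e v} : Set PSL(2, F)) := by
        intro b hb
        rw [mem_centralizer_singleton_iff] at hb ⊢
        rw [← map_mul, hb, map_mul]
      have := (even_cent hev hn' _ (hm s (sylow_le_centralizer S hS hv hs'))).2 _ (hm a ha)
      apply e.injective
      rw [map_mul, map_mul, this]
    rw [le_antisymm h1 (gd_cent_le hv)] at h7
    omega
  · exfalso
    have hab' : Ab2 PSL(2, F) := hab.of_surjective e.toMonoidHom e.surjective
    have h4 := card_sylow_psl ho h3 (S.mapSurjective (f := e.toMonoidHom) e.surjective) (hab' _)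
    have : Nat.card ((S : Subgroup G).map e.toMonoidHom) = Nat.card (S : Subgroup G) :=
      card_map_of_injective e.injective
    have h5 : Nat.card ((S : Subgroup G).map e.toMonoidHom) = 4 := h4
    omega

end CfsgLib.Abel2
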